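import Groth.Agent.Lib.Ample.Immersion
import Groth.Agent.Lib.Hyperplane.ZeroScheme
import Groth.Agent.Lib.GradedAlg.ProjClosed

/-!
# Very ampleness of `O(1)` on `Proj` when enough fractions come from degree one
-/

set_option autoImplicit false
set_option linter.all false
set_option backward.isDefEq.respectTransparency false

universe u

open CategoryTheory CategoryTheory.Limits AlgebraicGeometry TopologicalSpace Opposite HomogeneousLocalization
open GrothLib.Ample GrothLib.Ample.ProjTwist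
open GrothLib.GradedAlg (frac)

noncomputable section

namespace GrothLib.TwistEmb11

variable {R A : Type u} [CommRing R] [CommRing A] [Algebra R A] (𝒜 : ℕ → Submodule R A) [GradedAlgebra 𝒜]

/-- The constants of a chart are pulled back from the base. -/
theorem appLE_const {g : A} {d : ℕ} (hg : g ∈ 𝒜 d) (hd : 0 < d) (r : R)
    (h : Proj.basicOpen 𝒜 g ≤
      (Proj.toSpecZero 𝒜 ≫ Spec.map (CommRingCat.ofHom (algebraMap R (𝒜 0)))) ⁻¹ᵁ ⊤) :
    ((Proj.toSpecZero 𝒜 ≫ Spec.map (CommRingCat.ofHom (algebraMap R (𝒜 0)))).appLE ⊤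
      (Proj.basicOpen 𝒜 g) h).hom ((Scheme.ΓSpecIso (CommRingCat.of R)).inv r) =
      (Proj.awayToSection 𝒜 g).hom
        (((HomogeneousLocalization.fromZeroRingHom 𝒜 _).comp (algebraMap R (𝒜 0))) r) := by
  obtain ⟨z, hz⟩ := (GradedAlg.awayToSection_bijective g hg hd).2
    (((Proj.toSpecZero 𝒜 ≫ Spec.map (CommRingCat.ofHom (algebraMap R (𝒜 0)))).appLE ⊤
      (Proj.basicOpen 𝒜 g) h).hom ((Scheme.ΓSpecIso (CommRingCat.of R)).inv r))
  have e : ⊤ ≤ Proj.awayι 𝒜 g hg hd ⁻¹ᵁ Proj.basicOpen 𝒜 g := by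
    rw [← Proj.opensRange_awayι 𝒜 g hg hd, Scheme.Hom.preimage_opensRange]
  have h1 : ((Proj.awayι 𝒜 g hg hd).appLE (Proj.basicOpen 𝒜 g) ⊤ e).hom (Proj.awayToSection 𝒜 g z) =
      (Scheme.ΓSpecIso (.of (Away 𝒜 g))).inv z := ProjMap.awayι_appLE_awayToSection 𝒜 hg hd z e
  rw [hz, ← CommRingCat.comp_apply, Scheme.Hom.appLE_comp_appLE] at h1
  have h2 : ∀ (φ : Spec (CommRingCat.of (Away 𝒜 g)) ⟶ Spec (CommRingCat.of R)) (e' : ⊤ ≤ φ ⁻¹ᵁ ⊤),
      φ = Spec.map (CommRingCat.ofHom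
        ((HomogeneousLocalization.fromZeroRingHom 𝒜 _).comp (algebraMap R (𝒜 0)))) →
      (φ.appLE ⊤ ⊤ e').hom ((Scheme.ΓSpecIso (CommRingCat.of R)).inv r) =
        (Scheme.ΓSpecIso (.of (Away 𝒜 g))).inv
          (((HomogeneousLocalization.fromZeroRingHom 𝒜 _).comp (algebraMap R (𝒜 0))) r) := by
    rintro _ e' rfl
    have := congrArg (fun ψ => ψ.hom r) (Scheme.ΓSpecIso_inv_naturality
      (CommRingCat.ofHom ((HomogeneousLocalization.fromZeroRingHom 𝒜 (Submonoid.powers g)).comp (algebraMap R (𝒜 0)))))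
    rw [show (Spec.map (CommRingCat.ofHom
        ((HomogeneousLocalization.fromZeroRingHom 𝒜 (Submonoid.powers g)).comp (algebraMap R (𝒜 0))))).appLE ⊤ ⊤ e' =
      (Spec.map (CommRingCat.ofHom
        ((HomogeneousLocalization.fromZeroRingHom 𝒜 (Submonoid.powers g)).comp (algebraMap R (𝒜 0))))).appTop by
        rw [Scheme.Hom.appTop, Scheme.Hom.app_eq_appLE]; rfl]
    exact this.symm
  have h3 := h1.symm.trans (h2 _ _ (by
    rw [Proj.awayι_toSpecZero_assoc, ← Spec.map_comp, ← CommRingCat.ofHom_comp]))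
  rw [← hz]
  exact congrArg _ ((Scheme.ΓSpecIso (.of (Away 𝒜 g))).commRingCatIsoToRingEquiv.symm.injective h3)

/-- `O(1)` is very ample if the degree-one elements `t` cover `Proj` and their ratios generate the charts in `J`. -/
theorem veryAmple {M : ℕ} (t : Fin (M + 1) → A) (ht : ∀ k, t k ∈ 𝒜 1) (J : Set (Fin (M + 1)))
    (hJ : ⨆ j ∈ J, Proj.basicOpen 𝒜 (t j) = ⊤)
    (hgen : ∀ j ∈ J, ∀ (m : ℕ) (b : A), b ∈ 𝒜 m → ∃ N : ℕ, b * t j ^ N ∈
      Submodule.span R (Set.range fun w : Fin (m + N) → Fin (M + 1) => ∏ l, t (w l))) :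
    RelAmple.IsRelVeryAmplePn (Proj.toSpecZero 𝒜 ≫ Spec.map (CommRingCat.ofHom (algebraMap R (𝒜 0))))
      (Twist.twist 𝒜 ((1 : ℕ) : ℤ)) := by
  classical
  let x : ULift.{u} (Fin (M + 1)) → A := fun k => t k.down
  have hcov : ⨆ k, Proj.basicOpen 𝒜 (x k) = ⊤ := top_le_iff.1 (hJ.ge.trans
    (iSup₂_le fun j _ => le_iSup_of_le (ULift.up j) le_rfl))
  let c := cocycle 𝒜 x (fun k => ht k.down) hcov
  let L : ∀ (k : Fin (M + 1)) (i : c.ι), Γ(Proj 𝒜, ⊤ ⊓ c.D i) := fun k i =>
    fracO (t k) (x i) (ht k) (ht i.down) fun y => y.2.2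
  let a : Fin (M + 1) → c.sect 1 ⊤ := fun k => ⟨L k, fun i j W hi hj => by
    refine ev_ext fun y => ?_
    rw [ev_mul, ev_pow, ev_G, ev_res, ev_res, ev_fracO, ev_fracO, pow_one, Localization.mk_mul,
      Localization.mk_eq_mk_iff, Localization.r_iff_exists]
    exact ⟨1, by simp only [OneMemClass.coe_one, one_mul, Submonoid.coe_mul]; ring⟩⟩
  have hloc : ∀ k, c.locus (a k) = Proj.basicOpen 𝒜 (t k) := by
    intro k
    refine le_antisymm (iSup_le fun i y hy => ?_) fun y hy => ?_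
    · by_contra hn
      let W := (Proj 𝒜).basicOpen (L k i)
      have hu : IsUnit (res ((Proj 𝒜).basicOpen_le (L k i)) (L k i)) :=
        RingedSpace.isUnit_res_basicOpen _ _
      obtain ⟨v, hv⟩ := hu.exists_right_inv
      have h := congrArg (ev (⟨y, hy⟩ : (Proj 𝒜).basicOpen (L k i))) hv
      rw [ev_mul, ev_res, ev_one, ev_fracO] at h
      have h' := IsUnit.of_mul_eq_one _ h
      rw [Localization.mk_eq_mk', IsLocalization.AtPrime.isUnit_mk'_iff] at h'
      exact hn h'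
    · refine Opens.mem_iSup.mpr ⟨ULift.up k, ?_⟩
      show y ∈ (Proj 𝒜).basicOpen (L k (ULift.up k))
      have h1 : L k (ULift.up k) = 1 := ev_ext fun z => by
        rw [ev_fracO, ev_one]
        exact Localization.mk_self (⟨t k, z.2.2⟩ : z.1.asHomogeneousIdeal.toIdeal.primeCompl)
      rw [h1, Scheme.basicOpen_of_isUnit _ isUnit_one]
      exact ⟨trivial, hy⟩
  refine isRelVeryAmplePn_of_sections _ c (asIso (toTwist 𝒜 x (fun k => ht k.down) hcov 1)).symm a J
    (fun y => ?_) (fun j _ => by rw [hloc]; exact Proj.isAffineOpen_basicOpen 𝒜 _ (ht j) one_pos)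
    fun j hj => ?_
  · have := hJ.ge (Opens.mem_top y)
    obtain ⟨j, hy⟩ := Opens.mem_iSup.mp this
    obtain ⟨hj, hy⟩ := Opens.mem_iSup.mp hy
    exact ⟨j, hj, by rw [hloc]; exact hy⟩
  suffices key : ∀ (V : (Proj 𝒜).Opens) (hV : V = Proj.basicOpen 𝒜 (t j)) (b : Γ(Proj 𝒜, V)),
      b ∈ Subring.closure
        (Set.range ((Proj.toSpecZero 𝒜 ≫ Spec.map (CommRingCat.ofHom (algebraMap R (𝒜 0)))).appLE ⊤ V le_top).hom ∪
          {g | ∃ k, g • c.sectRes (le_top : V ≤ ⊤) (a j) = c.sectRes le_top (a k)}) from key _ (hloc j)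
  rintro _ rfl b
  let ats := (Proj.awayToSection 𝒜 (t j)).hom
  obtain ⟨z, rfl⟩ := (GradedAlg.awayToSection_bijective (t j) (ht j) one_pos).2 b
  obtain ⟨m, e, he, rfl⟩ := Away.mk_surjective 𝒜 (ht j) z
  have he' : e ∈ 𝒜 m := by simpa using he
  set S := Subring.closure
    (Set.range ((Proj.toSpecZero 𝒜 ≫ Spec.map (CommRingCat.ofHom (algebraMap R (𝒜 0)))).appLE ⊤ (Proj.basicOpen 𝒜 (t j)) le_top).hom ∪
      {g | ∃ k, g • c.sectRes (le_top : Proj.basicOpen 𝒜 (t j) ≤ ⊤) (a j) = c.sectRes le_top (a k)}) with hS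
  have hone : ∀ k, ats (frac 𝒜 (ht j) 1 (t k) (ht k)) ∈ S := by
    refine fun k => Subring.subset_closure (Or.inr ⟨k, c.sect_ext fun i => ev_ext fun y => ?_⟩)
    rw [Cocycle.smul_apply, ev_mul, ev_res, Cocycle.sectRes_apply, Cocycle.sectRes_apply, ev_res, ev_res,
      ev_fracO, ev_fracO, Hyperplane.ev_awayToSection_frac, Localization.mk_mul, Localization.mk_eq_mk_iff,
      Localization.r_iff_exists]
    exact ⟨1, by simp only [OneMemClass.coe_one, one_mul, Submonoid.coe_mul, pow_one]; ring⟩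
  have hprod : ∀ (q : ℕ) (w : Fin q → Fin (M + 1)), ∃ hm : ∏ l, t (w l) ∈ 𝒜 q,
      ats (frac 𝒜 (ht j) q (∏ l, t (w l)) hm) ∈ S := by
    intro q
    induction q with
    | zero =>
      intro w
      refine ⟨by rw [Fin.prod_univ_zero]; exact SetLike.GradedOne.one_mem, ?_⟩
      convert one_mem S
      rw [← map_one ats]
      congr 1
      apply HomogeneousLocalization.val_injective
      rw [Away.val_mk, HomogeneousLocalization.val_one]
      simp [Fin.prod_univ_zero, ← Localization.mk_one]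
    | succ q ih =>
      intro w
      obtain ⟨hm, hs⟩ := ih fun l => w l.castSucc
      have hp := SetLike.mul_mem_graded hm (ht (w (Fin.last q)))
      refine ⟨by rw [Fin.prod_univ_castSucc]; exact hp, ?_⟩
      rw [GradedAlg.frac_congr (ht j) (q + 1) _ hp (Fin.prod_univ_castSucc _),
        GradedAlg.frac_mul (ht j) q 1 hm (ht _), map_mul]
      exact mul_mem hs (hone _)
  obtain ⟨N, hN⟩ := hgen j hj m e he'
  have key : ∀ v ∈ Submodule.span R (Set.range fun w : Fin (m + N) → Fin (M + 1) => ∏ l, t (w l)),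
      ∃ hm : v ∈ 𝒜 (m + N), ats (frac 𝒜 (ht j) (m + N) v hm) ∈ S := by
    intro v hv
    induction hv using Submodule.span_induction with
    | mem v hv => obtain ⟨w, rfl⟩ := hv; exact hprod _ w
    | zero => exact ⟨zero_mem _, by rw [GradedAlg.frac_zero, map_zero]; exact zero_mem S⟩
    | add v v' _ _ h h' =>
      obtain ⟨hm, hs⟩ := h; obtain ⟨hm', hs'⟩ := h'
      exact ⟨add_mem hm hm', by rw [GradedAlg.frac_add (ha := hm) (hb := hm'), map_add]; exact add_mem hs hs'⟩
    | smul r v _ h =>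
      obtain ⟨hm, hs⟩ := h
      refine ⟨Submodule.smul_mem _ r hm, ?_⟩
      have e1 : frac 𝒜 (ht j) (m + N) (r • v) (Submodule.smul_mem _ r hm) =
          ((HomogeneousLocalization.fromZeroRingHom 𝒜 _).comp (algebraMap R (𝒜 0))) r *
            frac 𝒜 (ht j) (m + N) v hm := by
        apply HomogeneousLocalization.val_injective
        rw [HomogeneousLocalization.val_mul, Away.val_mk, Away.val_mk]
        simp only [fromZeroRingHom, RingHom.comp_apply, RingHom.coe_mk, MonoidHom.coe_mk, OneHom.coe_mk,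
          HomogeneousLocalization.val_mk]
        rw [Localization.mk_mul, Localization.mk_eq_mk_iff, Localization.r_iff_exists]
        exact ⟨1, by simp [Algebra.smul_def]⟩
      rw [e1, map_mul]
      exact mul_mem (Subring.subset_closure (Or.inl ⟨_, appLE_const 𝒜 (ht j) one_pos r le_top⟩)) hs
  obtain ⟨hm, hs⟩ := key _ hN
  convert hs using 2
  apply HomogeneousLocalization.val_injective
  rw [Away.val_mk, Away.val_mk, Localization.mk_eq_mk_iff, Localization.r_iff_exists]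
  exact ⟨1, by simp only [OneMemClass.coe_one, one_mul, smul_eq_mul, mul_one, pow_add]; ring⟩

end GrothLib.TwistEmb11
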